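import Groth.Agent.Formal2VBLib.Basic
import Groth.Agent.ConsLib.ModLoci

/-!
# Pull-back of coherent formal modules
-/

set_option autoImplicit false
set_option linter.unusedSectionVars false

noncomputable section

universe u

open CategoryTheory CategoryTheory.Limits AlgebraicGeometry Opposite TopologicalSpace

namespace FormalPullLib

variable {A : Type u} [CommRing A] {X Y : Scheme.{u}}
  [X.Over (Spec (CommRingCat.of A))] [Y.Over (Spec (CommRingCat.of A))]
  (f : X ⟶ Y) (hf : f ≫ (Y ↘ Spec (CommRingCat.of A)) = X ↘ Spec (CommRingCat.of A))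

theorem pushforward_smulModΓ (P : X.Modules) (r : Γ(Y, ⊤)) :
    (Scheme.Modules.pushforward f).map (Formal.smulModΓ P (f.appTop r)) =
      Formal.smulModΓ ((Scheme.Modules.pushforward f).obj P) r :=
  Scheme.Modules.hom_ext _ _ fun U => ConcreteCategory.hom_ext _ _ fun m => by
    refine (Formal2VBLib.app_smulModΓ P (f.appTop r) (f ⁻¹ᵁ U) m).trans ?_
    refine Eq.trans ?_ (Formal2VBLib.app_smulModΓ ((Scheme.Modules.pushforward f).obj P) r U m).symm
    exact congrArg (fun z : Γ(X, f ⁻¹ᵁ U) => z • (show Γ(P, f ⁻¹ᵁ U) from m))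
      (congr($(f.naturality (homOfLE (le_top : U ≤ ⊤)).op) r)).symm

include hf in
theorem pushforward_smulMod (P : X.Modules) (a : A) :
    (Scheme.Modules.pushforward f).map (Formal.smulMod A P a) =
      Formal.smulMod A ((Scheme.Modules.pushforward f).obj P) a := by
  refine Eq.trans (congrArg (fun r => (Scheme.Modules.pushforward f).map (Formal.smulModΓ P r)) ?_)
    (pushforward_smulModΓ f P (Coh.toGlobal (Y ↘ Spec (CommRingCat.of A)) a))
  change (X ↘ Spec (CommRingCat.of A)).appTop _ = _
  rw [← hf]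
  rfl

include hf in
theorem pullback_smulMod (G : Y.Modules) (a : A) :
    (Scheme.Modules.pullback f).map (Formal.smulMod A G a) =
      Formal.smulMod A ((Scheme.Modules.pullback f).obj G) a := by
  refine ((Scheme.Modules.pullbackPushforwardAdjunction f).homEquiv _ _).injective ?_
  rw [Adjunction.homEquiv_unit, Adjunction.homEquiv_unit, pushforward_smulMod f hf]
  refine ((Scheme.Modules.pullbackPushforwardAdjunction f).unit.naturality (Formal.smulMod A G a)).symm.trans ?_
  exact Formal2VBLib.smulModΓ_naturality _ _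

theorem isIso_desc_map {C : Type*} [Category C] [HasZeroMorphisms C] {D : Type*} [Category D] [HasZeroMorphisms D]
    {F : C ⥤ D} {R : D ⥤ C} (adj : F ⊣ R) {S P Q : C} {s : S ⟶ P} [HasCokernel s] {t : P ⟶ Q} {h : s ≫ t = 0}
    (hd : IsIso (cokernel.desc s t h)) {S' : D} {s' : S' ⟶ F.obj P} [HasCokernel s'] (hw : s' ≫ F.map t = 0)
    (hc : s ≫ adj.homEquiv _ _ (cokernel.π s') = 0) : IsIso (cokernel.desc s' (F.map t) hw) := by
  haveI := hd
  have ht : cokernel.π s ≫ cokernel.desc s t h = t := cokernel.π_desc _ _ _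
  haveI : Epi t := ht ▸ epi_comp _ _
  haveI : F.IsLeftAdjoint := adj.isLeftAdjoint
  haveI : Epi (F.map t) := inferInstance
  let e := (adj.homEquiv _ _).symm (inv (cokernel.desc s t h) ≫ cokernel.desc s _ hc)
  have he : F.map t ≫ e = cokernel.π s' := by
    refine (adj.homEquiv_naturality_left_symm t _).symm.trans ?_
    refine (congrArg (adj.homEquiv _ _).symm ?_).trans ((adj.homEquiv _ _).symm_apply_apply (cokernel.π s'))
    calc t ≫ inv (cokernel.desc s t h) ≫ cokernel.desc s _ hc
        = (cokernel.π s ≫ cokernel.desc s t h) ≫ inv (cokernel.desc s t h) ≫ cokernel.desc s _ hc := by rw [ht]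
      _ = adj.homEquiv _ _ (cokernel.π s') := by rw [Category.assoc, IsIso.hom_inv_id_assoc, cokernel.π_desc]
  refine ⟨e, ?_, ?_⟩
  · refine (cancel_epi (cokernel.π s')).1 ?_
    rw [cokernel.π_desc_assoc, Category.comp_id]
    exact he
  · refine (cancel_epi (F.map t)).1 ?_
    rw [← Category.assoc, he, Category.comp_id]
    exact cokernel.π_desc _ _ _

include hf in
/-- Pull-back keeps coherent formal modules coherent formal. -/
theorem isCohFormal_pullback {I : Ideal A} {G : ℕᵒᵖ ⥤ Y.Modules} (hG : Formal.IsCohFormal I G) :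
    Formal.IsCohFormal I (G ⋙ Scheme.Modules.pullback f) := by
  let adj := Scheme.Modules.pullbackPushforwardAdjunction f
  let F := Scheme.Modules.pullback f
  haveI : F.IsLeftAdjoint := adj.isLeftAdjoint
  refine ⟨fun n => ConsLib.isCoh_pullback f (hG.1 n), fun n a ha => ?_, fun n => ?_⟩
  · refine (pullback_smulMod f hf (G.obj (op n)) a).symm.trans ?_
    rw [hG.2.1 n a ha]
    exact Functor.map_zero _ _ _
  obtain ⟨h, hiso⟩ := hG.2.2 n
  have hw : Formal.smulFamily (I ^ (n + 1)) (F.obj (G.obj (op (n + 1)))) ≫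
      F.map (G.map (homOfLE (Nat.le_succ n)).op) = 0 :=
    Formal2VBLib.smulFamily_comp_eq_zero _ _ fun a ha => by
      rw [← pullback_smulMod f hf, ← F.map_comp]
      refine (congrArg F.map ?_).trans (Functor.map_zero _ _ _)
      have e : Sigma.ι (fun _ : ↥(I ^ (n + 1)) => G.obj (op (n + 1))) ⟨a, ha⟩ ≫
          Formal.smulFamily (I ^ (n + 1)) (G.obj (op (n + 1))) = Formal.smulMod A (G.obj (op (n + 1))) a :=
        Sigma.ι_desc (fun b : ↥(I ^ (n + 1)) => Formal.smulMod A (G.obj (op (n + 1))) (b : A)) ⟨a, ha⟩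
      rw [← e, Category.assoc, h, comp_zero]
  refine ⟨hw, isIso_desc_map adj hiso hw ?_⟩
  refine Formal2VBLib.smulFamily_comp_eq_zero _ _ fun a ha => ?_
  refine ((adj.homEquiv_naturality_left (Formal.smulMod A _ a) _).symm).trans ?_
  rw [pullback_smulMod f hf]
  refine (congrArg (adj.homEquiv _ _) (Formal2VBLib.smul_modPowπ I (n + 1) _ ha)).trans ?_
  rw [Adjunction.homEquiv_unit, Functor.map_zero, comp_zero]
  rfl

end FormalPullLib
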